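import Mathlib

/-! # The map θ on truncated Witt vectors -/

set_option autoImplicit false
universe u

namespace Groth.Agent.ThetaW

variable (p : ℕ) [Fact p.Prime] {n : ℕ} {B : Type u} [CommRing B]
  (θ : TruncatedWittVector p n (B ⧸ (Ideal.span {(p : B)})) →+* B)

theorem exists_pow_sub (hF : Function.Surjective (fun y : B ⧸ (Ideal.span {(p : B)}) => y ^ p)) :
    ∀ (m : ℕ) (a : B), ∃ y c : B, a = y ^ (p ^ m) + (p : B) * c := by
  intro m
  induction m with
  | zero => exact fun a => ⟨a, 0, by simp⟩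
  | succ m ih =>
    intro a
    obtain ⟨y, c, rfl⟩ := ih a
    obtain ⟨z, hz⟩ := hF (Ideal.Quotient.mk _ y)
    obtain ⟨z, rfl⟩ := Ideal.Quotient.mk_surjective z
    have h1 : (p : B) ∣ z ^ p - y := by
      rw [← Ideal.mem_span_singleton, ← Ideal.Quotient.eq, map_pow]
      exact hz
    obtain ⟨d, hd⟩ := h1.trans (sub_dvd_pow_sub_pow (z ^ p) y (p ^ m))
    refine ⟨z, c - d, ?_⟩
    rw [pow_succ', pow_mul]
    linear_combination -hd

theorem exists_expansion (hF : Function.Surjective (fun y : B ⧸ (Ideal.span {(p : B)}) => y ^ p)) :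
    ∀ (m : ℕ) (a : B), ∃ x : ℕ → B, ∃ c : B, a = ∑ i : Fin m, (p : B) ^ (i : ℕ) * x i ^ (p ^ (m - i)) + (p : B) ^ m * c := by
  intro m
  induction m with
  | zero => exact fun a => ⟨fun _ => 0, a, by simp⟩
  | succ m ih =>
    intro a
    obtain ⟨y, c, rfl⟩ := exists_pow_sub p hF (m + 1) a
    obtain ⟨x, d, rfl⟩ := ih c
    refine ⟨fun i => match i with | 0 => y | j + 1 => x j, d, ?_⟩
    rw [Fin.sum_univ_succ, mul_add, Finset.mul_sum]
    simp only [Fin.val_zero, pow_zero, one_mul, Nat.sub_zero, Fin.val_succ, Nat.succ_sub_succ, pow_succ', mul_assoc]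
    ring

variable {p θ}

theorem surjective (hp : (p : B) ^ n = 0)
    (hF : Function.Surjective (fun y : B ⧸ (Ideal.span {(p : B)}) => y ^ p))
    (hθ : ∀ x : WittVector p B, θ (WittVector.truncate n (WittVector.map (Ideal.Quotient.mk (Ideal.span {(p : B)})) x)) =
        ∑ i : Fin n, (p : B) ^ (i : ℕ) * (x.coeff i) ^ (p ^ (n - i))) :
    Function.Surjective θ := fun a => by
  obtain ⟨x, c, hx⟩ := exists_expansion p hF n a
  exact ⟨_, (hθ (WittVector.mk p x)).trans (by rw [hx, hp, zero_mul, add_zero]; rfl)⟩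

/-- `θ a` is divisible by `p` iff the `p ^ n`-th power of the first coefficient vanishes. -/
theorem dvd_iff (hn : 0 < n)
    (hθ : ∀ x : WittVector p B, θ (WittVector.truncate n (WittVector.map (Ideal.Quotient.mk (Ideal.span {(p : B)})) x)) =
        ∑ i : Fin n, (p : B) ^ (i : ℕ) * (x.coeff i) ^ (p ^ (n - i)))
    (a : TruncatedWittVector p n (B ⧸ (Ideal.span {(p : B)}))) :
    (p : B) ∣ θ a ↔ (TruncatedWittVector.coeff ⟨0, hn⟩ a) ^ (p ^ n) = 0 := by
  obtain ⟨w, rfl⟩ := WittVector.truncate_surjective p n _ a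
  obtain ⟨x, rfl⟩ := WittVector.map_surjective (p := p) _ Ideal.Quotient.mk_surjective w
  obtain ⟨m, rfl⟩ : ∃ m, n = m + 1 := ⟨n - 1, by omega⟩
  rw [hθ, WittVector.coeff_truncate, WittVector.map_coeff, ← map_pow, Ideal.Quotient.eq_zero_iff_mem,
    Ideal.mem_span_singleton, Fin.sum_univ_succ]
  simp only [Fin.val_zero, pow_zero, one_mul, Nat.sub_zero]
  refine dvd_add_left (Finset.dvd_sum fun i _ => dvd_mul_of_dvd_left (dvd_pow_self _ ?_) _)
  simp

end Groth.Agent.ThetaW
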